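import Cfsg.Agent.HeldType.Code
import Cfsg.Agent.SporadicRecognition.TransvectionCentralizer

/-!
# Coordinates on the centraliser of an involution of type `SL₅(2)`-transvection
-/

set_option autoImplicit false

namespace Cfsg.Agent.HeldType.Coord

open Cfsg.Agent.HeldType.Code Matrix

/-- Coordinates on `C_G(z)`: the elements of `C_G(z)` are `f a`, `a` a good code. -/
structure Coords (G : Type*) [Group G] (z : G) where
  f : ℕ → G
  f_mul : ∀ {a b : ℕ}, good a = true → good b = true → f (mul a b) = f a * f b
  f_inj : ∀ {a b : ℕ}, good a = true → good b = true → f a = f b → a = b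
  f_zc : f zc = z
  exists_code : ∀ g : G, g * z = z * g → ∃ a, good a = true ∧ f a = g

/-- the special linear matrix with code `a` -/
noncomputable def sl (a : ℕ) : SpecialLinearGroup (Fin 5) (ZMod 2) :=
  if h : (decode a).det = 1 then ⟨decode a, h⟩ else 1

/-- the underlying matrix -/
def mat (A : SpecialLinearGroup (Fin 5) (ZMod 2)) : Matrix (Fin 5) (Fin 5) (ZMod 2) := A

theorem mat_mul (A B : SpecialLinearGroup (Fin 5) (ZMod 2)) : mat (A * B) = mat A * mat B :=
  Matrix.SpecialLinearGroup.coe_mul A B

theorem mat_det (A : SpecialLinearGroup (Fin 5) (ZMod 2)) : (mat A).det = 1 := A.2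

theorem sl_val {a : ℕ} (h : (decode a).det = 1) : mat (sl a) = decode a := by
  have : sl a = ⟨decode a, h⟩ := dif_pos h
  rw [this]; rfl

theorem sl_eq {A B : SpecialLinearGroup (Fin 5) (ZMod 2)} (h : mat A = mat B) : A = B :=
  Subtype.ext h

theorem good_zc : good zc = true := by decide

theorem good_det {a : ℕ} (h : good a = true) : (decode a).det = 1 := ((good_iff a).1 h).2.2

theorem testBit_sum_pow (k : ℕ) : ∀ (c : ℕ → Bool) (n : ℕ), n < k →
    (∑ i ∈ Finset.range k, if c i then 2 ^ i else 0).testBit n = c n ∧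
      (∑ i ∈ Finset.range k, if c i then 2 ^ i else 0) < 2 ^ k := by
  induction k with
  | zero => intro c n hn; omega
  | succ k ih =>
    intro c n hn
    rw [Finset.sum_range_succ]
    have hlt : (∑ i ∈ Finset.range k, if c i then 2 ^ i else 0) < 2 ^ k := by
      rcases Nat.eq_zero_or_pos k with h | h
      · subst h; simp
      · exact (ih c 0 h).2
    have hs : (∑ i ∈ Finset.range k, if c i then 2 ^ i else 0) + (if c k then 2 ^ k else 0) <
        2 ^ (k + 1) := by
      rw [pow_succ]
      split_ifs <;> omega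
    refine ⟨?_, hs⟩
    rcases Nat.lt_succ_iff_lt_or_eq.1 hn with h | h
    · cases hc : c k
      · simpa using (ih c n h).1
      · simp only [if_true]
        rw [Nat.add_comm, Nat.testBit_two_pow_add_gt h]
        exact (ih c n h).1
    · subst h
      cases hc : c n
      · simp only [Bool.false_eq_true, if_false, add_zero]
        exact Nat.testBit_lt_two_pow hlt
      · simp only [if_true]
        rw [Nat.add_comm, Nat.testBit_two_pow_add_eq, Nat.testBit_lt_two_pow hlt]
        rfl

theorem exists_code_of_matrix (A : Matrix (Fin 5) (Fin 5) (ZMod 2)) :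
    ∃ a, a < 2 ^ 25 ∧ decode a = A := by
  classical
  let c : ℕ → Bool := fun n => if h : n < 25 then
    decide (A ⟨n / 5, by omega⟩ ⟨n % 5, by omega⟩ = 1) else false
  refine ⟨∑ i ∈ Finset.range 25, if c i then 2 ^ i else 0,
    (testBit_sum_pow 25 c 0 (by norm_num)).2, ?_⟩
  ext i j
  unfold decode
  rw [(testBit_sum_pow 25 c (5 * i.val + j.val) (by omega)).1]
  have hlt : 5 * i.val + j.val < 25 := by omega
  have h1 : (⟨(5 * i.val + j.val) / 5, by omega⟩ : Fin 5) = i := by
    ext; simp only; omega
  have h2 : (⟨(5 * i.val + j.val) % 5, by omega⟩ : Fin 5) = j := by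
    ext; simp only; omega
  simp only [c, dif_pos hlt, h1, h2]
  rcases (by decide : ∀ x : ZMod 2, x = 0 ∨ x = 1) (A i j) with h | h <;> rw [h] <;> decide

theorem good_of_commute {A : SpecialLinearGroup (Fin 5) (ZMod 2)} {a : ℕ} (ha : a < 2 ^ 25)
    (h : decode a = mat A) (hc : sl zc * A = A * sl zc) :
    good a = true := by
  have hz : good zc = true := by decide
  rw [good_iff]
  refine ⟨ha, ?_, ?_⟩
  · have h1 : mat (sl zc * A) = mat (A * sl zc) := by rw [hc]
    rw [mat_mul, mat_mul, sl_val (good_det hz)] at h1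
    rw [h]; exact h1
  · rw [h]; exact mat_det A

theorem sl_mul {a b : ℕ} (ha : (decode a).det = 1) (hb : (decode b).det = 1) :
    sl (mul a b) = sl a * sl b := by
  apply sl_eq
  have h : (decode (mul a b)).det = 1 := by rw [decode_mul, Matrix.det_mul, ha, hb, one_mul]
  rw [sl_val h, mat_mul, sl_val ha, sl_val hb, decode_mul]

theorem sl_one : sl one = 1 := by
  have h : (decode one).det = 1 := by rw [decode_one, Matrix.det_one]
  apply sl_eq
  rw [sl_val h, decode_one]; rfl

theorem det_pc : (decode pc).det = 1 := by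
  have h : (decode pc).det * (decode pc).det = 1 := by
    rw [← Matrix.det_mul, ← decode_mul, pc_sq, decode_one, Matrix.det_one]
  rcases (by decide : ∀ x : ZMod 2, x = 0 ∨ x = 1) (decode pc).det with h1 | h1
  · rw [h1] at h; exact absurd h (by decide)
  · exact h1

theorem sl_pc_sq : sl pc * sl pc = 1 := by
  rw [← sl_mul det_pc det_pc, pc_sq, sl_one]

attribute [local irreducible] sl Code.mul Code.good

theorem exists_coord {G : Type*} [Group G] {s : SpecialLinearGroup (Fin 5) (ZMod 2)}
    (hs : (s : Matrix (Fin 5) (Fin 5) (ZMod 2)) = Matrix.transvection 0 1 1) (z : G)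
    (hz : orderOf z = 2)
    (e : (Subgroup.centralizer ({z} : Set G)) ≃*
      Subgroup.centralizer ({s} : Set (SpecialLinearGroup (Fin 5) (ZMod 2)))) :
    Nonempty (Coords G z) := by
  classical
  have hzC : z ∈ Subgroup.centralizer ({z} : Set G) := by
    rw [Subgroup.mem_centralizer_singleton_iff]
  have hmap := SporadicRecognition.TransvectionCentralizer.map_z hs z hz e hzC
  have hdsc : (decode sc).det = 1 := by rw [decode_sc, ← hs]; exact s.2
  have hs' : sl sc = s := by
    apply sl_eq
    rw [sl_val hdsc, decode_sc]; exact hs.symm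
  have hconj : sl pc * s * sl pc = sl zc := by
    rw [← hs', ← sl_mul det_pc hdsc, ← sl_mul _ det_pc, pc_conj]
    rw [decode_mul, Matrix.det_mul, det_pc, hdsc, one_mul]
  have hconj' : sl pc * sl zc * sl pc = s := by
    rw [← hconj]
    calc sl pc * (sl pc * s * sl pc) * sl pc = (sl pc * sl pc) * s * (sl pc * sl pc) := by group
      _ = s := by rw [sl_pc_sq]; simp
  have hgood : ∀ {a : ℕ}, good a = true → sl zc * sl a = sl a * sl zc := by
    intro a ha
    have hz' : good zc = true := good_zc
    apply sl_eq
    rw [mat_mul, mat_mul, sl_val (good_det ha),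
      sl_val (good_det hz')]
    exact ((good_iff a).1 ha).2.1
  have hmem : ∀ {a : ℕ}, good a = true →
      sl pc * sl a * sl pc ∈ Subgroup.centralizer ({s} : Set (SpecialLinearGroup (Fin 5) (ZMod 2))) := by
    intro a ha
    rw [Subgroup.mem_centralizer_singleton_iff, ← hconj']
    calc sl pc * sl a * sl pc * (sl pc * sl zc * sl pc)
        = sl pc * sl a * (sl pc * sl pc) * sl zc * sl pc := by group
      _ = sl pc * (sl a * sl zc) * sl pc := by rw [sl_pc_sq]; group
      _ = sl pc * (sl zc * sl a) * sl pc := by rw [hgood ha]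
      _ = sl pc * sl zc * (sl pc * sl pc) * sl a * sl pc := by rw [sl_pc_sq]; group
      _ = _ := by group
  let f : ℕ → G := fun a => if h : good a = true then
      ((e.symm ⟨_, hmem h⟩ : Subgroup.centralizer ({z} : Set G)) : G) else 1
  have hf : ∀ {a : ℕ} (h : good a = true), f a =
      ((e.symm ⟨sl pc * sl a * sl pc, hmem h⟩ : Subgroup.centralizer ({z} : Set G)) : G) :=
    fun h => dif_pos h
  refine ⟨{ f := f, f_mul := ?_, f_inj := ?_, f_zc := ?_, exists_code := ?_ }⟩
  · intro a b ha hb
    rw [hf ha, hf hb, hf (good_mul ha hb), ← Subgroup.coe_mul, ← map_mul]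
    have key : (⟨sl pc * sl (mul a b) * sl pc, hmem (good_mul ha hb)⟩ :
        Subgroup.centralizer ({s} : Set (SpecialLinearGroup (Fin 5) (ZMod 2)))) =
        ⟨sl pc * sl a * sl pc, hmem ha⟩ * ⟨sl pc * sl b * sl pc, hmem hb⟩ := by
      apply Subtype.ext
      show sl pc * sl (mul a b) * sl pc = (sl pc * sl a * sl pc) * (sl pc * sl b * sl pc)
      rw [sl_mul (good_det ha) (good_det hb)]
      calc sl pc * (sl a * sl b) * sl pc = sl pc * sl a * 1 * sl b * sl pc := by group
        _ = sl pc * sl a * (sl pc * sl pc) * sl b * sl pc := by rw [sl_pc_sq]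
        _ = _ := by group
    rw [key]
  · intro a b ha hb h
    rw [hf ha, hf hb] at h
    have h1 := e.symm.injective (Subtype.ext h)
    have h2 : sl pc * sl a * sl pc = sl pc * sl b * sl pc := Subtype.ext_iff.1 h1
    have h3 : sl a = sl b := mul_left_cancel (mul_right_cancel h2)
    have h4 : decode a = decode b := by
      rw [← sl_val (good_det ha), ← sl_val (good_det hb), h3]
    exact decode_inj ((good_iff a).1 ha).1 ((good_iff b).1 hb).1 h4
  · rw [hf good_zc]
    have h1 : (⟨sl pc * sl zc * sl pc, hmem good_zc⟩ :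
        Subgroup.centralizer ({s} : Set (SpecialLinearGroup (Fin 5) (ZMod 2)))) = e ⟨z, hzC⟩ := by
      apply Subtype.ext
      rw [hmap]; exact hconj'
    rw [h1, MulEquiv.symm_apply_apply]
  · intro g hg
    have hgC : g ∈ Subgroup.centralizer ({z} : Set G) := by
      rw [Subgroup.mem_centralizer_singleton_iff]; exact hg
    obtain ⟨B, hB⟩ : ∃ B, B = ((e ⟨g, hgC⟩ : Subgroup.centralizer ({s} : Set _)) :
      SpecialLinearGroup (Fin 5) (ZMod 2)) := ⟨_, rfl⟩
    have hBs : B * s = s * B := by
      rw [hB]; exact Subgroup.mem_centralizer_singleton_iff.1 (e ⟨g, hgC⟩).2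
    obtain ⟨a, ha, hda⟩ := exists_code_of_matrix (mat (sl pc * B * sl pc))
    have hga : good a = true := by
      refine good_of_commute ha hda ?_
      rw [← hconj]
      calc sl pc * s * sl pc * (sl pc * B * sl pc) = sl pc * s * (sl pc * sl pc) * B * sl pc := by
            group
        _ = sl pc * (s * B) * sl pc := by rw [sl_pc_sq]; group
        _ = sl pc * (B * s) * sl pc := by rw [hBs]
        _ = sl pc * B * 1 * s * sl pc := by group
        _ = sl pc * B * (sl pc * sl pc) * s * sl pc := by rw [sl_pc_sq]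
        _ = _ := by group
    refine ⟨a, hga, ?_⟩
    rw [hf hga]
    have h1 : (⟨sl pc * sl a * sl pc, hmem hga⟩ :
        Subgroup.centralizer ({s} : Set (SpecialLinearGroup (Fin 5) (ZMod 2)))) = e ⟨g, hgC⟩ := by
      apply Subtype.ext
      have h2 : sl a = sl pc * B * sl pc := by
        apply sl_eq
        rw [sl_val (good_det hga), hda]
      show sl pc * sl a * sl pc = _
      rw [h2, ← hB]
      calc sl pc * (sl pc * B * sl pc) * sl pc = (sl pc * sl pc) * B * (sl pc * sl pc) := by group
        _ = B := by rw [sl_pc_sq]; simp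
    rw [h1, MulEquiv.symm_apply_apply]

end Cfsg.Agent.HeldType.Coord
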