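import Mathlib

/-!
# A Sylow step

If `T` is a `p`-group centralising `z`, `x` is conjugate to `z` and `T` does not centralise `x`,
then some element of `C(x)` outside `T` normalises `T ∩ C(x)`.
-/

set_option autoImplicit false

namespace Cfsg.Agent.HeldType.SylowStep

theorem exists_normalizing {G : Type*} [Group G] [Finite G] {p : ℕ} [Fact p.Prime]
    (T : Subgroup G) (hT : IsPGroup p T)
    {z x k : G} (hTz : ∀ t ∈ T, t * z = z * t) (hk : k * z = x * k)
    (hne : ∃ t ∈ T, t * x ≠ x * t) :
    ∃ t : G, t * x = x * t ∧ t ∉ T ∧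
      ∀ r ∈ T, r * x = x * r → t * r * t⁻¹ ∈ T ∧ t⁻¹ * r * t ∈ T := by
  classical
  set X : Subgroup G := Subgroup.centralizer {x} with hX
  have memX : ∀ g : G, g ∈ X ↔ g * x = x * g := fun g => Subgroup.mem_centralizer_singleton_iff
  set R : Subgroup G := T ⊓ X with hR
  have hRT : R ≤ T := inf_le_left
  have hRX : R ≤ X := inf_le_right
  have hRp : IsPGroup p (R.subgroupOf X) := by
    have h1 : IsPGroup p R := hT.to_le hRT
    exact h1.comap_of_injective X.subtype (Subgroup.subtype_injective X)
  obtain ⟨P, hP⟩ := hRp.exists_le_sylow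
  have hneq : R.subgroupOf X ≠ (P : Subgroup X) := by
    intro heq
    -- the conjugate of T by k lies in X
    set T2 : Subgroup G := T.map (MulAut.conj k).toMonoidHom with hT2
    have hT2X : T2 ≤ X := by
      rintro _ ⟨t, ht, rfl⟩
      rw [memX]
      have h := hTz t ht
      have hx : x = k * z * k⁻¹ := by rw [hk]; group
      show k * t * k⁻¹ * x = x * (k * t * k⁻¹)
      rw [hx]
      calc k * t * k⁻¹ * (k * z * k⁻¹) = k * (t * z) * k⁻¹ := by group
        _ = k * (z * t) * k⁻¹ := by rw [h]
        _ = _ := by group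
    have hT2p : IsPGroup p (T2.subgroupOf X) := by
      have h1 : IsPGroup p T2 := hT.map _
      exact h1.comap_of_injective X.subtype (Subgroup.subtype_injective X)
    obtain ⟨P2, hP2⟩ := hT2p.exists_le_sylow
    have hcard : Nat.card (P2 : Subgroup X) = Nat.card (P : Subgroup X) := by
      rw [P2.card_eq_multiplicity, P.card_eq_multiplicity]
    have c1 : Nat.card (T2.subgroupOf X) = Nat.card T := by
      rw [Nat.card_congr (Subgroup.subgroupOfEquivOfLe hT2X).toEquiv]
      exact Nat.card_congr (Subgroup.equivMapOfInjective T (MulAut.conj k).toMonoidHom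
        (MulAut.conj k).injective).toEquiv.symm
    have c2 : Nat.card (R.subgroupOf X) = Nat.card R :=
      Nat.card_congr (Subgroup.subgroupOfEquivOfLe hRX).toEquiv
    have c3 : Nat.card (T2.subgroupOf X) ≤ Nat.card (P2 : Subgroup X) :=
      Nat.card_le_card_of_injective (Subgroup.inclusion hP2) (Subgroup.inclusion_injective hP2)
    rw [c1, hcard, ← heq, c2] at c3
    have : R = T := by
      apply SetLike.coe_injective
      apply Set.eq_of_subset_of_ncard_le
      · exact hRT
      · exact c3
      · exact Set.toFinite _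
    obtain ⟨t, ht, hne'⟩ := hne
    have : t ∈ R := by rw [this]; exact ht
    exact hne' ((memX t).1 (hRX this))
  -- normaliser grows
  have hlt : (R.subgroupOf X).subgroupOf (P : Subgroup X) < ⊤ := by
    rw [lt_top_iff_ne_top]
    intro h
    rw [Subgroup.subgroupOf_eq_top] at h
    exact hneq (le_antisymm hP h)
  have : Finite (P : Subgroup X) := inferInstance
  have := P.isPGroup'.isNilpotent
  have hnc := Group.normalizerCondition_of_isNilpotent (G := (P : Subgroup X)) _ hlt
  obtain ⟨⟨t, htP⟩, htN, htR⟩ := SetLike.exists_of_lt hnc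
  refine ⟨(t : G), (memX _).1 t.2, ?_, ?_⟩
  · intro htT
    apply htR
    rw [Subgroup.mem_subgroupOf, Subgroup.mem_subgroupOf]
    exact ⟨htT, t.2⟩
  · intro r hr hrx
    have htN' := inv_mem htN
    rw [Subgroup.mem_normalizer_iff] at htN htN'
    have hrX : r ∈ X := (memX r).2 hrx
    have hrR : (⟨r, hrX⟩ : X) ∈ R.subgroupOf X := by
      rw [Subgroup.mem_subgroupOf]; exact ⟨hr, hrX⟩
    have h1 := (htN ⟨⟨r, hrX⟩, hP hrR⟩).1 (by
      rw [Subgroup.mem_subgroupOf]; exact hrR)
    have h2 := (htN' ⟨⟨r, hrX⟩, hP hrR⟩).1 (by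
      rw [Subgroup.mem_subgroupOf]; exact hrR)
    rw [Subgroup.mem_subgroupOf, Subgroup.mem_subgroupOf] at h1 h2
    refine ⟨hRT h1, ?_⟩
    have h3 := hRT h2
    have e : t⁻¹⁻¹ = t := inv_inv t
    simpa using h3

end Cfsg.Agent.HeldType.SylowStep
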